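import Cfsg.Agent.H69.F43.Cls

/-!
# The orbits of `Sp₆(3)` on `V₁₄` which are not the long root orbit are large (S2464, F₄(3); helper210)

`orb_ge` : if `μ ≠ 0` is not equivalent to `e₀` then `18954 ≤ |orbit of μ|`.
-/

set_option autoImplicit false

namespace Cfsg.Agent.H210.F43

open Cfsg.Agent.H700.F43 Cfsg.Agent.H675.F43 Cfsg.Agent.H69.F43

/-- thirteen nodes of each type -/
def LL : List (List ℕ) := [[], [1, 3, 9, 39, 66, 91, 172, 247, 364, 472, 490, 634, 688], [2, 6, 18, 51, 78, 101, 182, 251, 404, 458, 494, 620, 728], [4, 5, 7, 8, 10, 11, 12, 15, 19, 20, 21, 24, 27], [13, 17, 23, 25, 29, 32, 35, 38, 43, 47, 49, 56, 59], [14, 16, 22, 26, 28, 31, 34, 37, 44, 46, 50, 55, 58]]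

/-- the `i`-th node of type `t` -/
def nd (t i : ℕ) : ℕ := (LL.getD t []).getD i 0

theorem nd_spec : ∀ t : Fin 6, t ≠ 0 → ∀ i : Fin 13, nd t i < 2187 ∧ typ (nd t i) = t := by
  decide +kernel

theorem nd_inj : ∀ t : Fin 6, t ≠ 0 → ∀ i j : Fin 13, nd t i = nd t j → i = j := by
  decide +kernel

/-- the symmetric matrix with the entries `X` -/
def MX (X : Fin 6 → F3) : Matrix (Fin 3) (Fin 3) F3 := !![X 0, X 5, X 4; X 5, X 1, X 3; X 4, X 3, X 2]

theorem MX_sym (X : Fin 6 → F3) : (MX X).transpose = MX X := by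
  ext i j
  fin_cases i <;> fin_cases j <;> rfl

theorem nc_zero (n : ℕ) : vec (nc n) 0 = 1 := by
  rw [nc, vec_ofl]
  simp

theorem nc_mid (n : ℕ) (i : Fin 6) : vec (nc n) ⟨i + 1, by omega⟩ = 0 := by
  rw [nc, vec_ofl]
  fin_cases i <;> simp

theorem nc_inj {m n : ℕ} (hm : m < 2187) (hn : n < 2187) (h : vec (nc m) = vec (nc n)) : m = n := by
  have key : ∀ k : Fin 14, dg (nc m) k = dg (nc n) k := by
    intro k
    have h1 := congrFun h k
    unfold vec at h1
    have h2 : ∀ c, c = m ∨ c = n → dg (nc c) k < 3 := by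
      intro c _
      unfold nc
      exact dg_ofl_lt _ _
    have h3 := (ZMod.natCast_eq_natCast_iff' _ _ 3).1 h1
    rwa [Nat.mod_eq_of_lt (h2 m (Or.inl rfl)), Nat.mod_eq_of_lt (h2 n (Or.inr rfl))] at h3
  have h7 := key 7
  have h8 := key 8
  have h9 := key 9
  have h10 := key 10
  have h11 := key 11
  have h12 := key 12
  have h13 := key 13
  unfold nc at h7 h8 h9 h10 h11 h12 h13
  rw [dg_ofl, dg_ofl] at h7 h8 h9 h10 h11 h12 h13
  simp at h7 h8 h9 h10 h11 h12 h13
  omega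

/-- the translates -/
noncomputable def tr (t : ℕ) (p : Bool × (Fin 6 → F3) × Fin 13) : V14 :=
  (if p.1 then (-1 : Module.End F3 V14) else 1) (Xuu (MX p.2.1) (vec (nc (nd t p.2.2))))

theorem tr_eqv (t : Fin 6) (ht : t ≠ 0) (p : Bool × (Fin 6 → F3) × Fin 13) : Eqv (vec (nc (rp t))) (tr t p) := by
  obtain ⟨h1, h2⟩ := nd_spec t ht p.2.2
  have h3 := node_eqv _ h1
  rw [h2] at h3
  have h4 : Eqv (vec (nc (nd t p.2.2))) (Xuu (MX p.2.1) (vec (nc (nd t p.2.2)))) :=
    ⟨uu (MX p.2.1) (MX_sym _), by rw [act_uu]⟩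
  have h5 := h3.symm.trans h4
  unfold tr
  split_ifs
  · exact h5.trans ⟨ng, by rw [act_ng]⟩
  · exact h5.trans (Eqv.refl _)

theorem xuu_zero (X : Fin 6 → F3) (n : ℕ) : Xuu (MX X) (vec (nc n)) 0 = 1 := by
  rw [← nc_zero n]
  rfl

theorem xuu_mid (X : Fin 6 → F3) (n : ℕ) (i : Fin 6) : Xuu (MX X) (vec (nc n)) ⟨i + 1, by omega⟩ = X i := by
  have h0 := nc_zero n
  have h := nc_mid n
  have h1 := h 0
  have h2 := h 1
  have h3 := h 2
  have h4 := h 3
  have h5 := h 4
  have h6 := h 5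
  have two : ∀ x : F3, -2 * x = x := by decide
  fin_cases i
  · change X 0 * vec (nc n) 0 + vec (nc n) 1 = X 0
    rw [h0, show vec (nc n) 1 = 0 from h1]
    ring
  · change X 1 * vec (nc n) 0 + vec (nc n) 2 = X 1
    rw [h0, show vec (nc n) 2 = 0 from h2]
    ring
  · change X 2 * vec (nc n) 0 + vec (nc n) 3 = X 2
    rw [h0, show vec (nc n) 3 = 0 from h3]
    ring
  · change (-2 * X 3) * vec (nc n) 0 + vec (nc n) 4 = X 3
    rw [h0, show vec (nc n) 4 = 0 from h4, two]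
    ring
  · change (-2 * X 4) * vec (nc n) 0 + vec (nc n) 5 = X 4
    rw [h0, show vec (nc n) 5 = 0 from h5, two]
    ring
  · change (-2 * X 5) * vec (nc n) 0 + vec (nc n) 6 = X 5
    rw [h0, show vec (nc n) 6 = 0 from h6, two]
    ring

theorem xuu_inj (X : Fin 6 → F3) {u v : V14} (h : Xuu (MX X) u = Xuu (MX X) v) : u = v := by
  rw [← act_uu (MX X) (MX_sym X)] at h
  have h1 := congrArg (act (uu (MX X) (MX_sym X))⁻¹) h
  have h2 := LinearMap.congr_fun (act_inv_mul (uu (MX X) (MX_sym X)))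
  exact ((h2 u).symm.trans h1).trans (h2 v)

theorem tr_inj (t : Fin 6) (ht : t ≠ 0) : Function.Injective (tr t) := by
  rintro ⟨s, X, i⟩ ⟨s', X', i'⟩ h
  have hne : (-1 : F3) ≠ 1 := by decide
  have hs : s = s' := by
    have h0 := congrFun h 0
    unfold tr at h0
    by_contra hss
    rcases s with _ | _ <;> rcases s' with _ | _
    · exact hss rfl
    · simp only [Bool.false_eq_true, if_false, if_true] at h0
      change Xuu (MX X) (vec (nc (nd t i))) 0 = -(Xuu (MX X') (vec (nc (nd t i'))) 0) at h0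
      rw [xuu_zero, xuu_zero] at h0
      exact hne h0.symm
    · simp only [Bool.false_eq_true, if_false, if_true] at h0
      change -(Xuu (MX X) (vec (nc (nd t i))) 0) = Xuu (MX X') (vec (nc (nd t i'))) 0 at h0
      rw [xuu_zero, xuu_zero] at h0
      exact hne h0
    · exact hss rfl
  subst hs
  have h1 : Xuu (MX X) (vec (nc (nd t i))) = Xuu (MX X') (vec (nc (nd t i'))) := by
    unfold tr at h
    rcases s with _ | _
    · exact h
    · exact neg_injective h
  have hX : X = X' := by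
    ext k
    have h2 := congrFun h1 ⟨k + 1, by omega⟩
    rw [xuu_mid, xuu_mid] at h2
    rw [h2]
  subst hX
  have h3 := nc_inj (nd_spec t ht i).1 (nd_spec t ht i').1 (xuu_inj X h1)
  have h4 := nd_inj t ht i i' h3
  rw [h4]

theorem e0_eq : vec (nc (rp 0)) = (Pi.single 0 1 : V14) := by
  ext k
  rw [nc, vec_ofl]
  fin_cases k <;> simp [rp]

/-- **The other orbits are large.** -/
theorem orb_ge {μ : V14} (h : μ ≠ 0) (h' : ¬ Eqv (Pi.single 0 1) μ) : 18954 ≤ Nat.card {ν : V14 // Eqv μ ν} := by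
  obtain ⟨n, hn, h1⟩ := exists_rep h
  have h2 := h1.trans (node_eqv n hn)
  have h3 := typ_le hn
  obtain ⟨t, ht⟩ : ∃ t : Fin 6, (t : ℕ) = typ n := ⟨⟨typ n, by omega⟩, rfl⟩
  rw [← ht] at h2
  have ht0 : t ≠ 0 := by
    rintro rfl
    refine h' ?_
    have h4 := h2.symm
    rwa [show ((0 : Fin 6) : ℕ) = 0 from rfl, e0_eq] at h4
  have hc : Nat.card (Bool × (Fin 6 → F3) × Fin 13) = 18954 := by
    simp [Nat.card_eq_fintype_card, ZMod.card]
  rw [← hc]
  refine Nat.card_le_card_of_injective (fun p => (⟨tr t p, h2.trans (tr_eqv t ht0 p)⟩ : {ν : V14 // Eqv μ ν})) ?_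
  intro p q hpq
  exact tr_inj t ht0 (Subtype.ext_iff.1 hpq)

end Cfsg.Agent.H210.F43
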