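import Cfsg.Agent.H210.F43.Avg
import Cfsg.Agent.H210.F43.Orb
import Cfsg.Agent.H69.F43.One
import Cfsg.Agent.H92.RB.Def

/-!
# Fourier transforms of invariant weights on `V₁₄` (S2464, F₄(3); helper210)

For an `Sp₆(3)`-invariant `D ≥ 0` on `V₁₄` and `v ≠ 0`:

* `tab_all` : `|FT D v| ≤ D 0 + 37/280 * AA D`;
* `tab_root` : `D 0 - 19/224 * AA D ≤ FT D v ≤ D 0 + 37/280 * AA D` if `v` is a long root vector.
-/

set_option autoImplicit false

namespace Cfsg.Agent.H210.F43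

open Cfsg.Agent.H700.F43 Cfsg.Agent.H675.F43 Cfsg.Agent.H69.F43 Cfsg.Agent.H92.RB Finset

theorem BB_eq (u v : V14) : BB u v = -bf u v := by
  simp only [BB, bf]
  ring

theorem c3_neg (t : F3) : c3 (-t) = c3 t := by
  simp only [c3, neg_eq_zero]

theorem c3_BB (u v : V14) : c3 (BB u v) = c3 (bf u v) := by
  rw [BB_eq, c3_neg]

theorem c3_of {t : F3} (h : t = 0) : c3 t = 1 := if_pos h

theorem c3_ne {t : F3} (h : t ≠ 0) : c3 t = -(1 / 2) := if_neg h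

theorem c3_prod (a b : F3) : c3 a * c3 b = (c3 (a + b) + c3 (a - b)) / 2 := by
  have h : ∀ a b : F3, (a = 0 ∧ b = 0 ∧ a + b = 0 ∧ a - b = 0) ∨ (a = 0 ∧ b ≠ 0 ∧ a + b ≠ 0 ∧ a - b ≠ 0) ∨
      (a ≠ 0 ∧ b = 0 ∧ a + b ≠ 0 ∧ a - b ≠ 0) ∨ (a ≠ 0 ∧ b ≠ 0 ∧ a + b = 0 ∧ a - b ≠ 0) ∨
      (a ≠ 0 ∧ b ≠ 0 ∧ a + b ≠ 0 ∧ a - b = 0) := by decide
  rcases h a b with ⟨h1, h2, h3, h4⟩ | ⟨h1, h2, h3, h4⟩ | ⟨h1, h2, h3, h4⟩ | ⟨h1, h2, h3, h4⟩ | ⟨h1, h2, h3, h4⟩
  · rw [c3_of h1, c3_of h2, c3_of h3, c3_of h4]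
    norm_num
  · rw [c3_of h1, c3_ne h2, c3_ne h3, c3_ne h4]
    norm_num
  · rw [c3_ne h1, c3_of h2, c3_ne h3, c3_ne h4]
    norm_num
  · rw [c3_ne h1, c3_ne h2, c3_of h3, c3_ne h4]
    norm_num
  · rw [c3_ne h1, c3_ne h2, c3_ne h3, c3_of h4]
    norm_num

theorem c3_three (s t : F3) (ht : t ≠ 0) : c3 s + c3 (s + t) + c3 (s + t + t) = 0 := by
  have h : ∀ s t : F3, t ≠ 0 → (s = 0 ∧ s + t ≠ 0 ∧ s + t + t ≠ 0) ∨ (s ≠ 0 ∧ s + t = 0 ∧ s + t + t ≠ 0) ∨
      (s ≠ 0 ∧ s + t ≠ 0 ∧ s + t + t = 0) := by decide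
  rcases h s t ht with ⟨h1, h2, h3⟩ | ⟨h1, h2, h3⟩ | ⟨h1, h2, h3⟩
  · rw [c3_of h1, c3_ne h2, c3_ne h3]
    norm_num
  · rw [c3_ne h1, c3_of h2, c3_ne h3]
    norm_num
  · rw [c3_ne h1, c3_ne h2, c3_of h3]
    norm_num

theorem card_V14 : Fintype.card V14 = 4782969 := by
  rw [Fintype.card_fun, ZMod.card, Fintype.card_fin]
  norm_num

/-- orthogonality -/
theorem sum_c3 (w : V14) : ∑ v : V14, c3 (bf w v) = if w = 0 then 4782969 else 0 := by
  split_ifs with h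
  · subst h
    simp only [bf_zero_left, c3, if_true, Finset.sum_const, Finset.card_univ, card_V14]
    norm_num
  · obtain ⟨u, hu⟩ : ∃ u, bf w u ≠ 0 := by
      by_contra hne
      push Not at hne
      exact h (bf_nondeg hne)
    have h1 : ∑ v : V14, c3 (bf w (v + u)) = ∑ v : V14, c3 (bf w v) :=
      Fintype.sum_equiv (Equiv.addRight u) _ _ fun _ => rfl
    have h2 : ∑ v : V14, c3 (bf w (v + u + u)) = ∑ v : V14, c3 (bf w (v + u)) :=
      Fintype.sum_equiv (Equiv.addRight u) _ _ fun _ => rfl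
    have h3 : ∑ v : V14, (c3 (bf w v) + c3 (bf w (v + u)) + c3 (bf w (v + u + u))) = 0 := by
      refine Finset.sum_eq_zero fun v _ => ?_
      rw [bf_add_right w (v + u) u, bf_add_right w v u]
      exact c3_three _ _ hu
    rw [Finset.sum_add_distrib, Finset.sum_add_distrib, h2, h1] at h3
    linarith

/-- **Parseval.** -/
theorem parseval (a : V14 → ℝ) : ∑ v : V14, (∑ ν : V14, a ν * c3 (bf ν v)) ^ 2 ≤ 4782969 * ∑ ν : V14, a ν ^ 2 := by
  have h1 : ∀ ν ν' : V14, ∑ v : V14, c3 (bf ν v) * c3 (bf ν' v) =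
      ((if ν' = -ν then 4782969 else 0) + (if ν' = ν then 4782969 else 0)) / 2 := by
    intro ν ν'
    have h2 : ∀ v : V14, c3 (bf ν v) * c3 (bf ν' v) = (c3 (bf (ν + ν') v) + c3 (bf (ν - ν') v)) / 2 := by
      intro v
      rw [c3_prod, bf_add_left, sub_eq_add_neg ν ν', bf_add_left, bf_neg_left, ← sub_eq_add_neg]
    rw [Finset.sum_congr rfl fun v _ => h2 v, ← Finset.sum_div, Finset.sum_add_distrib, sum_c3, sum_c3]
    have e1 : (ν + ν' = 0) ↔ (ν' = -ν) := by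
      rw [add_comm, add_eq_zero_iff_eq_neg]
    have e2 : (ν - ν' = 0) ↔ (ν' = ν) := by
      rw [sub_eq_zero]
      exact eq_comm
    simp only [e1, e2]
  have h2 : ∑ v : V14, (∑ ν : V14, a ν * c3 (bf ν v)) ^ 2 =
      ∑ ν : V14, ∑ ν' : V14, a ν * a ν' * ∑ v : V14, c3 (bf ν v) * c3 (bf ν' v) := by
    calc ∑ v : V14, (∑ ν : V14, a ν * c3 (bf ν v)) ^ 2
        = ∑ v : V14, ∑ ν : V14, ∑ ν' : V14, a ν * a ν' * (c3 (bf ν v) * c3 (bf ν' v)) := by
          refine Finset.sum_congr rfl fun v _ => ?_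
          rw [pow_two, Finset.sum_mul_sum]
          refine Finset.sum_congr rfl fun ν _ => Finset.sum_congr rfl fun ν' _ => ?_
          ring
      _ = ∑ ν : V14, ∑ v : V14, ∑ ν' : V14, a ν * a ν' * (c3 (bf ν v) * c3 (bf ν' v)) := Finset.sum_comm
      _ = ∑ ν : V14, ∑ ν' : V14, ∑ v : V14, a ν * a ν' * (c3 (bf ν v) * c3 (bf ν' v)) :=
          Finset.sum_congr rfl fun ν _ => Finset.sum_comm
      _ = ∑ ν : V14, ∑ ν' : V14, a ν * a ν' * ∑ v : V14, c3 (bf ν v) * c3 (bf ν' v) := by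
          refine Finset.sum_congr rfl fun ν _ => Finset.sum_congr rfl fun ν' _ => ?_
          rw [Finset.mul_sum]
  rw [h2]
  have h3 : ∑ ν : V14, ∑ ν' : V14, a ν * a ν' * ∑ v : V14, c3 (bf ν v) * c3 (bf ν' v) =
      4782969 / 2 * (∑ ν : V14, a ν * a (-ν) + ∑ ν : V14, a ν ^ 2) := by
    rw [← Finset.sum_add_distrib, Finset.mul_sum]
    refine Finset.sum_congr rfl fun ν _ => ?_
    have h4 : ∀ ν' : V14, a ν * a ν' * ∑ v : V14, c3 (bf ν v) * c3 (bf ν' v) =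
        (if ν' = -ν then 4782969 / 2 * (a ν * a ν') else 0) + (if ν' = ν then 4782969 / 2 * (a ν * a ν') else 0) := by
      intro ν'
      rw [h1]
      split_ifs <;> ring
    rw [Finset.sum_congr rfl fun ν' _ => h4 ν', Finset.sum_add_distrib, Finset.sum_ite_eq', Finset.sum_ite_eq',
      if_pos (Finset.mem_univ _), if_pos (Finset.mem_univ _)]
    ring
  rw [h3]
  have h5 : ∑ ν : V14, a ν * a (-ν) ≤ ∑ ν : V14, a ν ^ 2 := by
    have h6 : ∑ ν : V14, a (-ν) ^ 2 = ∑ ν : V14, a ν ^ 2 :=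
      Fintype.sum_equiv (Equiv.neg V14) _ _ fun _ => rfl
    have h7 : ∑ ν : V14, a ν * a (-ν) ≤ ∑ ν : V14, (a ν ^ 2 + a (-ν) ^ 2) / 2 := by
      refine Finset.sum_le_sum fun ν _ => ?_
      nlinarith [sq_nonneg (a ν - a (-ν))]
    rw [← Finset.sum_div, Finset.sum_add_distrib, h6] at h7
    linarith
  nlinarith

/-! ### the group -/

/-- the action as an instance -/
noncomputable abbrev spAct : MulAction Sp V14 where
  smul A v := act A v
  one_smul v := by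
    change act 1 v = v
    rw [map_one]
    rfl
  mul_smul A B v := by
    change act (A * B) v = act A (act B v)
    rw [map_mul]
    rfl

/-- `Sp₆(3)` is finite -/
noncomputable abbrev spFin : Fintype Sp := Fintype.ofFinite _

attribute [local instance] spAct spFin

theorem smul_def' (A : Sp) (v : V14) : A • v = act A v := rfl

/-- the kernel -/
noncomputable def ka (u v : V14) : ℝ := c3 (bf u v)

theorem ka_inv (A : Sp) (u v : V14) : ka (A • u) (A • v) = ka u v := by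
  unfold ka
  rw [smul_def', smul_def', bf_act]

theorem ka_symm (u v : V14) : ka u v = ka v u := by
  unfold ka
  rw [bf_swap, c3_neg]

theorem count {μ : V14} (h : μ ≠ 0) : -190 ≤ ∑ w ∈ O1, ka w μ ∧ ∑ w ∈ O1, ka w μ ≤ 296 := by
  classical
  obtain ⟨h1, h2⟩ := T1 h
  have hneg : (O1.filter fun w => bf μ w = -1).card = (O1.filter fun w => bf μ w = 1).card := by
    refine Finset.card_bij (fun w _ => -w) ?_ ?_ ?_
    · intro w hw
      rw [Finset.mem_filter] at hw ⊢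
      exact ⟨neg_mem_O1.2 hw.1, by rw [bf_neg_right, hw.2, neg_neg]⟩
    · intro w _ w' _ h
      exact neg_injective h
    · intro w hw
      rw [Finset.mem_filter] at hw
      exact ⟨-w, Finset.mem_filter.2 ⟨neg_mem_O1.2 hw.1, by rw [bf_neg_right, hw.2]⟩, neg_neg w⟩
  have hval : ∀ w : V14, ka w μ = 1 - (3 / 2) * (if bf μ w = 1 then (1 : ℝ) else 0) -
      (3 / 2) * (if bf μ w = -1 then (1 : ℝ) else 0) := by
    intro w
    have h3 : ∀ t : F3, (t = 0 ∧ t ≠ 1 ∧ t ≠ -1) ∨ (t ≠ 0 ∧ t = 1 ∧ t ≠ -1) ∨ (t ≠ 0 ∧ t ≠ 1 ∧ t = -1) := by decide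
    unfold ka
    rw [bf_swap, c3_neg]
    rcases h3 (bf μ w) with ⟨e1, e2, e3⟩ | ⟨e1, e2, e3⟩ | ⟨e1, e2, e3⟩
    · rw [if_neg e2, if_neg e3, c3, if_pos e1]
      norm_num
    · rw [if_pos e2, if_neg e3, c3, if_neg e1]
      norm_num
    · rw [if_neg e2, if_pos e3, c3, if_neg e1]
      norm_num
  have hsum : ∑ w ∈ O1, ka w μ = 2240 - 3 * ((O1.filter fun w => bf μ w = 1).card : ℝ) := by
    rw [Finset.sum_congr rfl fun w _ => hval w, Finset.sum_sub_distrib, Finset.sum_sub_distrib, ← Finset.mul_sum,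
      ← Finset.mul_sum, Finset.sum_boole, Finset.sum_boole, hneg, Finset.sum_const, card_O1]
    norm_num
    ring
  have h1' : (648 : ℝ) ≤ ((O1.filter fun w => bf μ w = 1).card : ℝ) := by exact_mod_cast h1
  have h2' : ((O1.filter fun w => bf μ w = 1).card : ℝ) ≤ 810 := by exact_mod_cast h2
  rw [hsum]
  constructor <;> linarith

theorem K_root {μ : V14} (h : μ ≠ 0) {v : V14} (hv : Eqv e0 v) :
    -(19 / 224) ≤ Avg.K Sp ka v μ ∧ Avg.K Sp ka v μ ≤ 37 / 280 := by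
  have h1 := Avg.K_orb Sp ka (μ := v) O1 (fun ν => by
    rw [mem_O1']
    constructor
    · intro h
      obtain ⟨A, hA⟩ := hv.symm.trans h
      exact ⟨A, hA.symm⟩
    · rintro ⟨A, hA⟩
      exact hv.trans ⟨A, hA.symm⟩) μ
  obtain ⟨h2, h3⟩ := count h
  rw [← h1, card_O1] at h2 h3
  push_cast at h2 h3
  constructor <;> linarith

theorem orb_card {μ : V14} (h : μ ≠ 0) (h' : ¬ Eqv e0 μ) : 18954 ≤ Nat.card (MulAction.orbit Sp μ) := by
  have h1 := orb_ge h h'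
  refine h1.trans (le_of_eq (Nat.card_congr (Equiv.subtypeEquivRight fun ν => ?_)))
  constructor
  · rintro ⟨A, rfl⟩
    exact ⟨A, rfl⟩
  · rintro ⟨A, rfl⟩
    exact ⟨A, rfl⟩

/-- **All averages are small.** -/
theorem K_all {μ v : V14} (h : μ ≠ 0) (hv : v ≠ 0) : |Avg.K Sp ka μ v| ≤ 37 / 280 := by
  by_cases h1 : Eqv e0 μ
  · obtain ⟨h2, h3⟩ := K_root hv h1
    rw [abs_le]
    constructor <;> linarith
  · by_cases h1' : Eqv e0 v
    · obtain ⟨h2, h3⟩ := K_root h h1'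
      rw [Avg.K_symm Sp ka_inv ka_symm, abs_le]
      constructor <;> linarith
    · have h2 := Avg.sq_le Sp ka_inv (C := 4782969) (by norm_num) (fun a _ => parseval a) μ v
      have h3 : (18954 : ℝ) ≤ Nat.card (MulAction.orbit Sp μ) := by exact_mod_cast orb_card h h1
      have h4 : (18954 : ℝ) ≤ Nat.card (MulAction.orbit Sp v) := by exact_mod_cast orb_card hv h1'
      have h5 : (18954 : ℝ) * 18954 ≤ (Nat.card (MulAction.orbit Sp μ) : ℝ) * Nat.card (MulAction.orbit Sp v) :=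
        mul_le_mul h3 h4 (by norm_num) (by linarith)
      have h6 := (mul_le_mul_of_nonneg_left h5 (sq_nonneg (Avg.K Sp ka μ v))).trans h2
      refine abs_le_of_sq_le_sq ?_ (by norm_num)
      nlinarith

/-! ### the transform -/

theorem inv_smul' {D : V14 → ℝ} (hi : Inv D) (A : Sp) (μ : V14) : D (A • μ) = D μ := hi A (act A) (rel_act A) μ

theorem FT_split (D : V14 → ℝ) (v : V14) : FT D v = D 0 + ∑ μ ∈ univ.erase (0 : V14), D μ * ka μ v := by
  unfold FT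
  rw [← Finset.add_sum_erase _ _ (Finset.mem_univ (0 : V14))]
  congr 1
  · rw [c3_BB, bf_zero_left, c3, if_pos rfl, mul_one]
  · refine Finset.sum_congr rfl fun μ _ => ?_
    rw [c3_BB]
    rfl

theorem erase_inv (A : Sp) (μ : V14) (h : μ ∈ (univ.erase (0 : V14))) : A • μ ∈ (univ.erase (0 : V14)) := by
  rw [Finset.mem_erase] at h ⊢
  refine ⟨fun h0 => h.1 ?_, Finset.mem_univ _⟩
  have h1 := congrArg (act A⁻¹) h0
  have h2 : act A⁻¹ (act A μ) = μ := LinearMap.congr_fun (act_inv_mul A) μ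
  rw [map_zero] at h1
  exact h2.symm.trans h1

/-- **K2 and (3)** -/
theorem tab_all (D : V14 → ℝ) (h0 : ∀ μ, 0 ≤ D μ) (hi : Inv D) {v : V14} (hv : v ≠ 0) :
    |FT D v| ≤ D 0 + 37 / 280 * AA D := by
  have h1 := Avg.abs_sum_le Sp (κ := ka) h0 (inv_smul' hi) erase_inv (v := v) (ρ := 37 / 280) fun μ hμ =>
    K_all (Finset.mem_erase.1 hμ).1 hv
  rw [FT_split]
  refine (abs_add_le _ _).trans ?_
  rw [abs_of_nonneg (h0 0)]
  exact add_le_add_right h1 _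

/-- **(2)** for every long root vector -/
theorem tab_root' (D : V14 → ℝ) (h0 : ∀ μ, 0 ≤ D μ) (hi : Inv D) {v : V14} (hv : Eqv e0 v) :
    D 0 - 19 / 224 * AA D ≤ FT D v ∧ FT D v ≤ D 0 + 37 / 280 * AA D := by
  have h1 : ∑ μ ∈ univ.erase (0 : V14), D μ * ka μ v = ∑ μ ∈ univ.erase (0 : V14), D μ * Avg.K Sp ka μ v :=
    Avg.sum_eq Sp (inv_smul' hi) erase_inv v
  have hK : ∀ μ ∈ univ.erase (0 : V14), -(19 / 224) ≤ Avg.K Sp ka μ v ∧ Avg.K Sp ka μ v ≤ 37 / 280 := by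
    intro μ hμ
    rw [Avg.K_symm Sp ka_inv ka_symm]
    exact K_root (Finset.mem_erase.1 hμ).1 hv
  rw [FT_split, h1]
  constructor
  · have h2 : -(19 / 224) * AA D ≤ ∑ μ ∈ univ.erase (0 : V14), D μ * Avg.K Sp ka μ v := by
      unfold AA
      rw [Finset.mul_sum]
      refine Finset.sum_le_sum fun μ hμ => ?_
      rw [mul_comm]
      exact mul_le_mul_of_nonneg_left (hK μ hμ).1 (h0 μ)
    linarith
  · have h2 : ∑ μ ∈ univ.erase (0 : V14), D μ * Avg.K Sp ka μ v ≤ 37 / 280 * AA D := by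
      unfold AA
      rw [Finset.mul_sum]
      refine Finset.sum_le_sum fun μ hμ => ?_
      rw [mul_comm (37 / 280 : ℝ)]
      exact mul_le_mul_of_nonneg_left (hK μ hμ).2 (h0 μ)
    linarith

/-- **(2)** -/
theorem tab_root (D : V14 → ℝ) (h0 : ∀ μ, 0 ≤ D μ) (hi : Inv D) :
    D 0 - 19 / 224 * AA D ≤ FT D (Pi.single 0 1) ∧ FT D (Pi.single 0 1) ≤ D 0 + 37 / 280 * AA D :=
  tab_root' D h0 hi (Eqv.refl e0)

end Cfsg.Agent.H210.F43
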