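import Mathlib

/-!
# Averages of an invariant kernel over orbits (S2464, F₄(3); helper210)

`G` acts on the finite set `V`, `κ : V → V → ℝ` invariant, `K G κ μ v` = mean of `κ` over the orbit of `μ`.

* `sq_le` : `K² |orbit μ| |orbit v| ≤ C` if `∑ v, (∑ ν, a ν κ ν v)² ≤ C ∑ ν, a ν²` for `0 ≤ a` (Parseval);
* `abs_sum_le` : `|∑ D μ κ μ v| ≤ ρ ∑ D μ` for an invariant `0 ≤ D` if `|K μ v| ≤ ρ`.
-/

set_option autoImplicit false
set_option linter.unusedSectionVars false

namespace Cfsg.Agent.H210.F43.Avg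

open Finset

variable (G : Type*) {V : Type*} [Group G] [Fintype G] [Fintype V] [DecidableEq V] [MulAction G V]

/-- the mean of `κ` over the orbit of `μ` -/
noncomputable def K (κ : V → V → ℝ) (μ v : V) : ℝ := (∑ g : G, κ (g • μ) v) / Fintype.card G

/-- the uniform distribution on the orbit of `μ` -/
noncomputable def un (μ ν : V) : ℝ := ((univ.filter fun g : G => g • μ = ν).card : ℝ) / Fintype.card G

theorem card_pos' : (0 : ℝ) < Fintype.card G := by exact_mod_cast Fintype.card_pos (α := G)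

theorem un_nonneg (μ ν : V) : 0 ≤ un G μ ν := div_nonneg (Nat.cast_nonneg _) (Nat.cast_nonneg _)

theorem un_sum (μ : V) : ∑ ν : V, un G μ ν = 1 := by
  have h := card_pos' G
  unfold un
  rw [← Finset.sum_div, div_eq_one_iff_eq h.ne']
  have h1 := Finset.card_eq_sum_card_fiberwise (s := (univ : Finset G)) (t := (univ : Finset V)) (f := fun g => g • μ)
    (fun _ _ => Finset.mem_coe.2 (Finset.mem_univ _))
  rw [Finset.card_univ] at h1
  exact_mod_cast h1.symm

theorem un_le (μ ν : V) : un G μ ν * Nat.card (MulAction.orbit G μ) ≤ 1 := by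
  classical
  have h := card_pos' G
  rw [un, div_mul_eq_mul_div, div_le_one h]
  have hos : Nat.card (MulAction.orbit G μ) * Nat.card (MulAction.stabilizer G μ) = Fintype.card G := by
    rw [← Nat.card_eq_fintype_card, Nat.card_congr (MulAction.orbitEquivQuotientStabilizer G μ),
      ← Subgroup.index_mul_card (MulAction.stabilizer G μ)]
    rfl
  by_cases hν : ∃ g₀ : G, g₀ • μ = ν
  · obtain ⟨g₀, rfl⟩ := hν
    have h1 : (univ.filter fun g : G => g • μ = g₀ • μ).card = Nat.card (MulAction.stabilizer G μ) := by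
      rw [← Fintype.card_subtype, ← Nat.card_eq_fintype_card]
      refine Nat.card_congr ⟨fun x => ⟨g₀⁻¹ * x.1, ?_⟩, fun y => ⟨g₀ * y.1, ?_⟩, ?_, ?_⟩
      · rw [MulAction.mem_stabilizer_iff, mul_smul, x.2, inv_smul_smul]
      · rw [mul_smul, MulAction.mem_stabilizer_iff.1 y.2]
      · intro x
        apply Subtype.ext
        simp
      · intro y
        apply Subtype.ext
        simp
    rw [h1, ← hos]
    push_cast
    rw [mul_comm]
  · have h1 : (univ.filter fun g : G => g • μ = ν) = ∅ := by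
      rw [Finset.filter_eq_empty_iff]
      exact fun g _ hg => hν ⟨g, hg⟩
    rw [h1]
    simp

theorem un_eq {μ ν : V} (hν : ∃ g₀ : G, g₀ • μ = ν) : un G μ ν * Nat.card (MulAction.orbit G μ) = 1 := by
  have h0 : ∀ ν', un G μ ν' * Nat.card (MulAction.orbit G μ) ≤ 1 := un_le G μ
  classical
  have hs := un_sum G μ
  have h1 : ∑ ν' ∈ univ.filter (fun w => w ∈ MulAction.orbit G μ), un G μ ν' = 1 := by
    rw [← hs]
    refine Finset.sum_subset (Finset.filter_subset _ _) fun x _ hx => ?_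
    have hx' : (univ.filter fun g : G => g • μ = x) = ∅ := by
      rw [Finset.filter_eq_empty_iff]
      exact fun g _ hg => hx (Finset.mem_filter.2 ⟨Finset.mem_univ _, ⟨g, hg⟩⟩)
    rw [un, hx']
    simp
  have h2 : (univ.filter (fun w => w ∈ MulAction.orbit G μ)).card = Nat.card (MulAction.orbit G μ) := by
    rw [Nat.card_eq_fintype_card, Fintype.card_subtype]
  have h3 : ∑ ν' ∈ univ.filter (fun w => w ∈ MulAction.orbit G μ), (1 - un G μ ν' * Nat.card (MulAction.orbit G μ)) = 0 := by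
    rw [Finset.sum_sub_distrib, ← Finset.sum_mul, h1, Finset.sum_const, h2]
    simp
  have h4 := (Finset.sum_eq_zero_iff_of_nonneg fun i _ => sub_nonneg.2 (h0 i)).1 h3 ν (by
    rw [Finset.mem_filter]
    exact ⟨Finset.mem_univ _, hν⟩)
  linarith

theorem un_zero {μ ν : V} (hν : ¬ ∃ g₀ : G, g₀ • μ = ν) : un G μ ν = 0 := by
  have hx' : (univ.filter fun g : G => g • μ = ν) = ∅ := by
    rw [Finset.filter_eq_empty_iff]
    exact fun g _ hg => hν ⟨g, hg⟩
  rw [un, hx']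
  simp

theorem K_eq (κ : V → V → ℝ) (μ v : V) : K G κ μ v = ∑ ν : V, un G μ ν * κ ν v := by
  unfold K un
  rw [← Finset.sum_fiberwise (univ : Finset G) (fun g => g • μ) (fun g => κ (g • μ) v), Finset.sum_div]
  refine Finset.sum_congr rfl fun ν _ => ?_
  rw [Finset.sum_congr rfl (g := fun _ => κ ν v) (fun g hg => by rw [(Finset.mem_filter.1 hg).2]), Finset.sum_const,
    nsmul_eq_mul]
  ring

/-- the mean over the orbit -/
theorem K_orb (κ : V → V → ℝ) {μ : V} (O : Finset V) (hO : ∀ ν, ν ∈ O ↔ ∃ g : G, g • μ = ν) (v : V) :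
    K G κ μ v * O.card = ∑ ν ∈ O, κ ν v := by
  classical
  have h2 : O.card = Nat.card (MulAction.orbit G μ) := by
    rw [Nat.card_eq_fintype_card, Fintype.card_subtype]
    congr 1
    ext ν
    rw [hO, Finset.mem_filter]
    exact ⟨fun h => ⟨Finset.mem_univ _, h⟩, fun h => h.2⟩
  rw [K_eq, Finset.sum_mul, ← Finset.sum_subset (Finset.subset_univ O)]
  · refine Finset.sum_congr rfl fun ν hν => ?_
    have h3 := un_eq G ((hO ν).1 hν)
    rw [h2, mul_right_comm, h3, one_mul]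
  · intro ν _ hν
    rw [un_zero G fun h => hν ((hO ν).2 h), zero_mul, zero_mul]

theorem K_smul_left (κ : V → V → ℝ) (h : G) (μ v : V) : K G κ (h • μ) v = K G κ μ v := by
  unfold K
  congr 1
  exact Fintype.sum_equiv (Equiv.mulRight h) _ _ fun g => by rw [Equiv.coe_mulRight, mul_smul]

theorem K_smul_right {κ : V → V → ℝ} (hκ : ∀ (g : G) (u v : V), κ (g • u) (g • v) = κ u v) (h : G) (μ v : V) :
    K G κ μ (h • v) = K G κ μ v := by
  unfold K
  congr 1
  refine Fintype.sum_equiv (Equiv.mulLeft h⁻¹) _ _ fun g => ?_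
  rw [Equiv.coe_mulLeft, mul_smul, ← hκ h (h⁻¹ • g • μ) v, smul_inv_smul]

theorem K_symm {κ : V → V → ℝ} (hκ : ∀ (g : G) (u v : V), κ (g • u) (g • v) = κ u v) (hs : ∀ u v, κ u v = κ v u)
    (μ v : V) : K G κ μ v = K G κ v μ := by
  unfold K
  congr 1
  refine Fintype.sum_equiv (Equiv.inv G) _ _ fun g => ?_
  rw [Equiv.inv_apply, hs (g⁻¹ • v) μ, ← hκ g μ (g⁻¹ • v), smul_inv_smul]

/-- **Parseval.** -/
theorem sq_le {κ : V → V → ℝ} (hκ : ∀ (g : G) (u v : V), κ (g • u) (g • v) = κ u v) {C : ℝ} (hC : 0 ≤ C)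
    (hP : ∀ a : V → ℝ, (∀ ν, 0 ≤ a ν) → ∑ v : V, (∑ ν : V, a ν * κ ν v) ^ 2 ≤ C * ∑ ν : V, a ν ^ 2) (μ v : V) :
    K G κ μ v ^ 2 * ((Nat.card (MulAction.orbit G μ) : ℝ) * (Nat.card (MulAction.orbit G v) : ℝ)) ≤ C := by
  classical
  set n : ℝ := (Nat.card (MulAction.orbit G μ) : ℝ) with hn
  have hn0 : 0 < n := by
    rw [hn]
    have : Nonempty (MulAction.orbit G μ) := ⟨⟨μ, MulAction.mem_orbit_self μ⟩⟩
    exact_mod_cast Nat.card_pos (α := MulAction.orbit G μ)
  have h1 : ∑ w : V, K G κ μ w ^ 2 ≤ C * (1 / n) := by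
    have h2 := hP (un G μ) (un_nonneg G μ)
    have h3 : ∑ w : V, K G κ μ w ^ 2 = ∑ w : V, (∑ ν : V, un G μ ν * κ ν w) ^ 2 :=
      Finset.sum_congr rfl fun w _ => by rw [K_eq]
    rw [h3]
    refine h2.trans (mul_le_mul_of_nonneg_left ?_ hC)
    calc ∑ ν : V, un G μ ν ^ 2 ≤ ∑ ν : V, (1 / n) * un G μ ν := by
          refine Finset.sum_le_sum fun ν _ => ?_
          rw [pow_two]
          refine mul_le_mul_of_nonneg_right ?_ (un_nonneg G μ ν)
          rw [le_div_iff₀ hn0]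
          exact un_le G μ ν
      _ = 1 / n := by rw [← Finset.mul_sum, un_sum, mul_one]
  have h2 : K G κ μ v ^ 2 * Nat.card (MulAction.orbit G v) ≤ ∑ w : V, K G κ μ w ^ 2 := by
    have h3 : ∑ w ∈ univ.filter (fun w => w ∈ MulAction.orbit G v), K G κ μ w ^ 2 =
        K G κ μ v ^ 2 * Nat.card (MulAction.orbit G v) := by
      rw [Finset.sum_congr rfl (g := fun _ => K G κ μ v ^ 2) (fun w hw => ?_), Finset.sum_const, nsmul_eq_mul, mul_comm]
      · congr 2
        rw [Nat.card_eq_fintype_card, Fintype.card_subtype]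
      · obtain ⟨g, hg⟩ := (Finset.mem_filter.1 hw).2
        have hg' : g • v = w := hg
        rw [← hg', K_smul_right G hκ]
    rw [← h3]
    exact Finset.sum_le_sum_of_subset_of_nonneg (Finset.filter_subset _ _) fun _ _ _ => sq_nonneg _
  have h4 := h2.trans h1
  calc K G κ μ v ^ 2 * (n * Nat.card (MulAction.orbit G v)) = n * (K G κ μ v ^ 2 * Nat.card (MulAction.orbit G v)) := by
        ring
    _ ≤ n * (C * (1 / n)) := mul_le_mul_of_nonneg_left h4 hn0.le
    _ = C := by field_simp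

theorem sum_eq {κ : V → V → ℝ} {D : V → ℝ} (hD : ∀ (g : G) (μ : V), D (g • μ) = D μ) {S : Finset V}
    (hS : ∀ (g : G) (μ : V), μ ∈ S → g • μ ∈ S) (v : V) :
    ∑ μ ∈ S, D μ * κ μ v = ∑ μ ∈ S, D μ * K G κ μ v := by
  have hc := card_pos' G
  have h1 : ∀ g : G, ∑ μ ∈ S, D μ * κ μ v = ∑ μ ∈ S, D μ * κ (g • μ) v := by
    intro g
    refine Finset.sum_bij' (fun μ _ => g⁻¹ • μ) (fun μ _ => g • μ) (fun μ hμ => hS _ _ hμ) (fun μ hμ => hS _ _ hμ)
      (fun μ _ => smul_inv_smul g μ) (fun μ _ => inv_smul_smul g μ) fun μ _ => ?_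
    rw [hD, smul_inv_smul]
  have h2 : (Fintype.card G : ℝ) * ∑ μ ∈ S, D μ * κ μ v = (Fintype.card G : ℝ) * ∑ μ ∈ S, D μ * K G κ μ v := by
    calc (Fintype.card G : ℝ) * ∑ μ ∈ S, D μ * κ μ v = ∑ _g : G, ∑ μ ∈ S, D μ * κ μ v := by
          rw [Finset.sum_const, nsmul_eq_mul, Finset.card_univ]
      _ = ∑ g : G, ∑ μ ∈ S, D μ * κ (g • μ) v := Finset.sum_congr rfl fun g _ => h1 g
      _ = ∑ μ ∈ S, D μ * ∑ g : G, κ (g • μ) v := by
          rw [Finset.sum_comm]
          exact Finset.sum_congr rfl fun μ _ => by rw [Finset.mul_sum]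
      _ = (Fintype.card G : ℝ) * ∑ μ ∈ S, D μ * K G κ μ v := by
          rw [Finset.mul_sum]
          refine Finset.sum_congr rfl fun μ _ => ?_
          unfold K
          field_simp
  exact mul_left_cancel₀ hc.ne' h2

theorem abs_sum_le {κ : V → V → ℝ} {D : V → ℝ} (hD0 : ∀ μ, 0 ≤ D μ) (hD : ∀ (g : G) (μ : V), D (g • μ) = D μ)
    {S : Finset V} (hS : ∀ (g : G) (μ : V), μ ∈ S → g • μ ∈ S) {v : V} {ρ : ℝ} (h : ∀ μ ∈ S, |K G κ μ v| ≤ ρ) :
    |∑ μ ∈ S, D μ * κ μ v| ≤ ρ * ∑ μ ∈ S, D μ := by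
  rw [sum_eq G hD hS, Finset.mul_sum]
  refine (Finset.abs_sum_le_sum_abs _ _).trans (Finset.sum_le_sum fun μ hμ => ?_)
  rw [abs_mul, abs_of_nonneg (hD0 μ), mul_comm]
  exact mul_le_mul_of_nonneg_right (h μ hμ) (hD0 μ)

end Cfsg.Agent.H210.F43.Avg
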